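import Groth.Agent.MaxTorusBC.Basic
import Groth.Agent.GrpSchLib.AntiAffineHom

/-!
# Maximal tori and geometric points
-/

universe u

open CategoryTheory CategoryTheory.Limits MonoidalCategory CartesianMonoidalCategory MonObj GrpObj AlgebraicGeometry

namespace Groth.Agent.MaxTorusBC

set_option backward.isDefEq.respectTransparency.types false

variable {S : Scheme.{u}}

/-- Maximality over any algebraically closed point is maximality in the geometric fibre. -/
theorem max_geom_iff {T G : Over S} [GrpObj T] [GrpObj G] [LocallyOfFinitePresentation G.hom] [QuasiCompact G.hom]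
    [QuasiSeparated G.hom] (i : T ⟶ G) [IsMonHom i] [Mono i] (hT : Red.IsTorus T) {Ω : Type u} [Field Ω] [IsAlgClosed Ω]
    (b : Spec (CommRingCat.of Ω) ⟶ S) (s : S) (hs : b (IsLocalRing.closedPoint Ω) = s) :
    Max ((Over.pullback b).map i) ↔ Max ((Over.pullback (Red.geomPt s)).map i) := by
  subst hs
  let L := AlgebraicClosure (S.residueField (b (IsLocalRing.closedPoint Ω)))
  let φ : S.residueField (b (IsLocalRing.closedPoint Ω)) →+* Ω :=
    (Scheme.descResidueField (Scheme.stalkClosedPointTo b)).hom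
  letI : Algebra (S.residueField (b (IsLocalRing.closedPoint Ω))) Ω := φ.toAlgebra
  let σ : L →ₐ[S.residueField (b (IsLocalRing.closedPoint Ω))] Ω := IsAlgClosed.lift
  letI : Algebra L Ω := σ.toRingHom.toAlgebra
  let g : Spec (CommRingCat.of Ω) ⟶ Spec (CommRingCat.of L) := Spec.map (CommRingCat.ofHom (algebraMap L Ω))
  have hb : g ≫ Red.geomPt (b (IsLocalRing.closedPoint Ω)) = b := by
    show Spec.map _ ≫ Spec.map _ ≫ _ = b
    rw [← Category.assoc, ← Spec.map_comp, ← CommRingCat.ofHom_comp]
    conv_rhs => rw [← Scheme.descResidueField_stalkClosedPointTo_fromSpecResidueField Ω S b]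
    congr 2
    ext x
    exact σ.commutes x
  rw [← max_cmp_iff hb i]
  let iL := (Over.pullback (Red.geomPt (b (IsLocalRing.closedPoint Ω)))).map i
  haveI : LocallyOfFinitePresentation (Red.geomFibre (b (IsLocalRing.closedPoint Ω)) G).hom :=
    inferInstanceAs (LocallyOfFinitePresentation (pullback.snd _ _))
  haveI : QuasiCompact (Red.geomFibre (b (IsLocalRing.closedPoint Ω)) G).hom :=
    inferInstanceAs (QuasiCompact (pullback.snd _ _))
  haveI : QuasiSeparated (Red.geomFibre (b (IsLocalRing.closedPoint Ω)) G).hom :=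
    inferInstanceAs (QuasiSeparated (pullback.snd _ _))
  haveI := GrpSchLib.AntiAffine.isSeparated_grp (Red.geomFibre (b (IsLocalRing.closedPoint Ω)) G)
  refine ⟨fun h => ?_, fun h => ?_⟩
  · haveI : Surjective g :=
      ⟨fun x => ⟨IsLocalRing.closedPoint Ω, Subsingleton.elim (α := PrimeSpectrum L) _ x⟩⟩
    haveI : Flat g := by
      rw [HasRingHomProperty.Spec_iff (P := @Flat)]
      exact RingHom.flat_algebraMap_iff.mpr inferInstance
    exact Max.of_bc g h
  · exact Max.bc L Ω (SolvGrp.isTorus_bc _ hT) h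

theorem isMaximalTorus_iff {T G : Over S} [GrpObj T] [GrpObj G] {i : T ⟶ G} [IsMonHom i] [Mono i]
    (hT : Red.IsTorus T) :
    Red.IsMaximalTorus i ↔ ∀ s : S, Max ((Over.pullback (Red.geomPt s)).map i) :=
  ⟨fun h => h.2.2.2, fun h => ⟨inferInstance, inferInstance, hT, h⟩⟩

/-- Maximal tori correspond under surjective base change. -/
theorem isMaximalTorus_bc_iff {S' : Scheme.{u}} {T G : Over S} [GrpObj T] [GrpObj G]
    [LocallyOfFinitePresentation G.hom] [QuasiCompact G.hom] [QuasiSeparated G.hom]
    (i : T ⟶ G) [IsMonHom i] [Mono i] (hT : Red.IsTorus T) (f : S' ⟶ S) (hf : Surjective f) :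
    Red.IsMaximalTorus i ↔ Red.IsMaximalTorus ((Over.pullback f).map i) := by
  have key : ∀ s' : S', Max ((Over.pullback (Red.geomPt s')).map ((Over.pullback f).map i)) ↔
      Max ((Over.pullback (Red.geomPt (f s'))).map i) := fun s' => by
    rw [max_cmp_iff (rfl : Red.geomPt s' ≫ f = _) i]
    refine max_geom_iff i hT _ _ ?_
    rw [Scheme.Hom.comp_apply]
    congr 1
    show (Spec.map _ ≫ S'.fromSpecResidueField s') _ = s'
    rw [Scheme.Hom.comp_apply, Scheme.fromSpecResidueField_apply]
  rw [isMaximalTorus_iff hT, isMaximalTorus_iff (SolvGrp.isTorus_bc f hT)]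
  refine ⟨fun h s' => (key s').2 (h _), fun h s => ?_⟩
  obtain ⟨s', rfl⟩ := hf.surj s
  exact (key s').1 (h s')

end Groth.Agent.MaxTorusBC
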