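import Groth.Agent.AlgClosedSpread.Basic
import Groth.Agent.MorLib.DescendCI
import Groth.Agent.GrpLimLib.Basic
import Groth.Agent.SolvGrp.Fibre
import Groth.Agent.TorusQI.Geom
import Groth.Agent.TorusQI.MaxSubtorus
import Groth.Agent.GrpSchLib.MultTypeLfp
import Groth.Agent.MultTypeGen.EssFree
import Groth.Agent.GrpSchLib.TorsorMap
import Groth.Agent.GrpSchLib.HomUnitLocus
import Groth.Agent.S3036
import Groth.Agent.S16611

/-!
# Maximality of tori among subtori under extension of an algebraically closed field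
-/

universe u

open CategoryTheory CategoryTheory.Limits MonoidalCategory CartesianMonoidalCategory MonObj GrpObj AlgebraicGeometry

namespace Groth.Agent.MaxTorusBC

set_option backward.isDefEq.respectTransparency.types false
set_option maxHeartbeats 400000

open GrpLimLib (cmp)

variable {S : Scheme.{u}}

/-- `i` is maximal among subtori. -/
def Max {T G : Over S} [GrpObj G] (i : T ⟶ G) : Prop :=
  ∀ (T' : Over S) [GrpObj T'] (j : T' ⟶ G) [IsMonHom j] [Mono j] (f : T ⟶ T'),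
    Red.IsTorus T' → f ≫ j = i → IsIso f

theorem Max.of_iso {T T₂ G G₂ : Over S} [GrpObj G] [GrpObj G₂] {i : T ⟶ G} {i₂ : T₂ ⟶ G₂} (hi : Max i)
    (eT : T ≅ T₂) (eG : G ≅ G₂) [IsMonHom eG.inv] (h : eT.hom ≫ i₂ = i ≫ eG.hom) : Max i₂ := by
  intro T' _ j _ _ f hT' hf
  haveI : IsIso (eT.hom ≫ f) := hi T' (j ≫ eG.inv) (eT.hom ≫ f) hT' (by
    rw [Category.assoc, reassoc_of% hf, reassoc_of% h, Iso.hom_inv_id, Category.comp_id])
  exact IsIso.of_isIso_comp_left eT.hom f

instance isMonHom_cmp_inv {S' S'' : Scheme.{u}} {g : S' ⟶ S} {h : S'' ⟶ S'} {k : S'' ⟶ S} (e : h ≫ g = k)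
    (G : Over S) [GrpObj G] : IsMonHom (cmp e G).inv := inferInstance

theorem cmp_naturality {S' S'' : Scheme.{u}} {g : S' ⟶ S} {h : S'' ⟶ S'} {k : S'' ⟶ S} (e : h ≫ g = k)
    {A B : Over S} (v : A ⟶ B) :
    (Over.pullback h).map ((Over.pullback g).map v) ≫ (cmp e B).hom = (cmp e A).hom ≫ (Over.pullback k).map v := by
  refine GrpLimLib.hom_ext₁ ?_
  simp only [Over.comp_left, Category.assoc, GrpLimLib.cmp_hom_fst, GrpLimLib.map_left_fst]
  rw [reassoc_of% GrpLimLib.cmp_hom_fst e A]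
  simp only [GrpLimLib.pr, Category.assoc]
  rw [reassoc_of% GrpLimLib.map_left_fst]
  erw [GrpLimLib.map_left_fst]

theorem max_cmp_iff {S' S'' : Scheme.{u}} {g : S' ⟶ S} {h : S'' ⟶ S'} {k : S'' ⟶ S} (e : h ≫ g = k)
    {A B : Over S} [GrpObj B] (v : A ⟶ B) :
    Max ((Over.pullback h).map ((Over.pullback g).map v)) ↔ Max ((Over.pullback k).map v) := by
  refine ⟨fun hm => hm.of_iso (cmp e A) (cmp e B) (cmp_naturality e v).symm, fun hm => ?_⟩
  haveI : IsMonHom (cmp e B).symm.inv := GrpLimLib.isMonHom_cmp e B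
  refine hm.of_iso (cmp e A).symm (cmp e B).symm ?_
  rw [Iso.symm_hom, Iso.symm_hom, Iso.inv_comp_eq, ← Category.assoc, ← cmp_naturality e v, Category.assoc,
    Iso.hom_inv_id]
  exact (Category.comp_id _).symm

theorem isPullback_map {S' : Scheme.{u}} (g : S' ⟶ S) {X Y : Over S} (v : X ⟶ Y) :
    IsPullback (pullback.fst X.hom g) ((Over.pullback g).map v).left v.left (pullback.fst Y.hom g) := by
  refine IsPullback.of_bot ?_ (GrpLimLib.map_left_fst (h := g) v).symm (IsPullback.of_hasPullback Y.hom g)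
  rw [Over.w v, show ((Over.pullback g).map v).left ≫ pullback.snd Y.hom g = pullback.snd X.hom g from
    Over.w ((Over.pullback g).map v)]
  exact IsPullback.of_hasPullback X.hom g

theorem isMonHom_of_mono {A B C : Over S} [GrpObj A] [GrpObj B] [GrpObj C] (f : A ⟶ B) (g : B ⟶ C) [IsMonHom g]
    [Mono g] (h : IsMonHom (f ≫ g)) : IsMonHom f where
  one_hom := by
    rw [← cancel_mono g, Category.assoc, IsMonHom.one_hom, IsMonHom.one_hom]
  mul_hom := by
    rw [← cancel_mono g, Category.assoc, IsMonHom.mul_hom, Category.assoc, IsMonHom.mul_hom, ← Category.assoc,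
      MonoidalCategory.tensorHom_comp_tensorHom]

/-- The base change along the identity. -/
noncomputable def pid (X : Over S) : Red.bc (𝟙 S) X ≅ X := Over.pullbackId.app X

theorem isMonHom_pullbackId (X : Over S) [GrpObj X] : IsMonHom (pid X).hom :=
  ((Functor.mapGrpNatIso Over.pullbackId ≪≫ Functor.mapGrpIdIso).app (Grp.mk X)).hom.hom.isMonHom_hom

theorem pid_naturality {A B : Over S} (v : A ⟶ B) :
    (Over.pullback (𝟙 S)).map v ≫ (pid B).hom = (pid A).hom ≫ v := Over.pullbackId.hom.naturality v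

theorem cmp_assoc {S₁ S₂ S₃ : Scheme.{u}} {g : S₁ ⟶ S} {h : S₂ ⟶ S₁} {t : S₃ ⟶ S₂} {hg : S₂ ⟶ S} {th : S₃ ⟶ S₁}
    {b : S₃ ⟶ S} (e : h ≫ g = hg) (e' : t ≫ hg = b) (e₂ : t ≫ h = th) (e₃ : th ≫ g = b) (Y : Over S) :
    (Over.pullback t).map (cmp e Y).hom ≫ (cmp e' Y).hom = (cmp e₂ (Red.bc g Y)).hom ≫ (cmp e₃ Y).hom := by
  refine GrpLimLib.hom_ext₁ ?_
  simp only [Over.comp_left, Category.assoc, GrpLimLib.cmp_hom_fst]
  simp only [GrpLimLib.pr]
  rw [reassoc_of% GrpLimLib.map_left_fst]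
  erw [GrpLimLib.cmp_hom_fst e Y, reassoc_of% GrpLimLib.cmp_hom_fst e₂ (Red.bc g Y)]

/-- A morphism at a stage, moved to a later stage. -/
theorem bc_stage {I : Type u} [SmallCategory I] (D : I ⥤ Scheme.{u}) (c : Cone D) {o a a₁ : I} (φ : a₁ ⟶ o)
    (p : a ⟶ a₁) (ψ : a ⟶ o) (e : D.map p ≫ D.map φ = D.map ψ) {A B : Over (D.obj o)}
    (u : Red.bc (D.map φ) A ⟶ Red.bc (D.map φ) B) (w : Red.bc (c.π.app o) A ⟶ Red.bc (c.π.app o) B)
    (hu : (Over.pullback (c.π.app a₁)).map u = (cmp (c.w φ) A).hom ≫ w ≫ (cmp (c.w φ) B).inv) :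
    (Over.pullback (c.π.app a)).map ((cmp e A).inv ≫ (Over.pullback (D.map p)).map u ≫ (cmp e B).hom) =
      (cmp (c.w ψ) A).hom ≫ w ≫ (cmp (c.w ψ) B).inv := by
  have hA := cmp_assoc e (c.w ψ) (c.w p) (c.w φ) A
  have hB := cmp_assoc e (c.w ψ) (c.w p) (c.w φ) B
  rw [← cancel_mono (cmp (c.w ψ) B).hom, Category.assoc, Category.assoc, Iso.inv_hom_id, Category.comp_id,
    Functor.map_comp, Functor.map_comp, Category.assoc, Category.assoc, hB,
    reassoc_of% cmp_naturality (c.w p) u, hu, Category.assoc, Category.assoc, Iso.inv_hom_id, Category.comp_id,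
    ← reassoc_of% hA, ← Category.assoc, ← Functor.map_comp, Iso.inv_hom_id, CategoryTheory.Functor.map_id,
    Category.id_comp]

theorem isClosedImmersion_conj {A B A' B' : Over S} (e : A' ≅ A) (e' : B ≅ B') {g : A ⟶ B}
    (h : IsClosedImmersion g.left) : IsClosedImmersion (e.hom ≫ g ≫ e'.hom).left := by
  haveI : IsIso e.hom.left := inferInstanceAs (IsIso ((Over.forget _).map e.hom))
  haveI : IsIso e'.hom.left := inferInstanceAs (IsIso ((Over.forget _).map e'.hom))
  rw [Over.comp_left, Over.comp_left]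
  infer_instance

/-- Maximality descends along faithfully flat quasi-compact morphisms. -/
theorem Max.of_bc {S' : Scheme.{u}} (g : S' ⟶ S) [Surjective g] [Flat g] [QuasiCompact g] {T G : Over S}
    [GrpObj G] {i : T ⟶ G} (h : Max ((Over.pullback g).map i)) : Max i := by
  intro T' _ j _ _ f hT' hf
  haveI : Mono ((Over.pullback g).map j) := inferInstance
  haveI hiso : IsIso ((Over.pullback g).map f) :=
    h _ ((Over.pullback g).map j) ((Over.pullback g).map f) (SolvGrp.isTorus_bc g hT')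
      (by rw [← Functor.map_comp, hf])
  haveI : IsIso ((Over.pullback g).map f).left := inferInstanceAs (IsIso ((Over.forget _).map ((Over.pullback g).map f)))
  haveI : IsIso f.left := GrpSchLib.TorsorMap.isIso_of_bc f.left (pullback.fst T'.hom g) _ _ (isPullback_map g f)
  haveI : IsIso ((Over.forget S).map f) := ‹IsIso f.left›
  exact isIso_of_reflects_iso f (Over.forget S)

section Limit

set_option synthInstance.maxHeartbeats 100000
set_option maxHeartbeats 1000000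

/-- A pair of homomorphisms over the limit of a system with sections, the second a closed immersion, specialises. -/
theorem exists_spec_of_limit {S₀ : Scheme.{u}} {I : Type u} [SmallCategory I] [IsCofiltered I] (Ds : I ⥤ Scheme.{u})
    (c : Cone Ds) (hc : IsLimit c) [∀ (a b : I) (φ : a ⟶ b), IsAffineHom (Ds.map φ)] [∀ a, IsAffine (Ds.obj a)]
    (st : ∀ a, Ds.obj a ⟶ S₀) (hst : ∀ {a b : I} (φ : a ⟶ b), Ds.map φ ≫ st b = st a)
    (hsec : ∀ a, ∃ σ : S₀ ⟶ Ds.obj a, σ ≫ st a = 𝟙 _) {pr : c.pt ⟶ S₀} (o : I) (hπ : c.π.app o ≫ st o = pr)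
    {T D G : Over S₀} [GrpObj T] [GrpObj D] [GrpObj G]
    [LocallyOfFinitePresentation T.hom] [QuasiCompact T.hom] [QuasiSeparated T.hom]
    [LocallyOfFinitePresentation D.hom] [QuasiCompact D.hom] [QuasiSeparated D.hom]
    [LocallyOfFinitePresentation G.hom] [QuasiCompact G.hom] [QuasiSeparated G.hom]
    (i : T ⟶ G) [IsMonHom i]
    (j : Red.bc pr D ⟶ Red.bc pr G) (hj : IsMonHom j) (hjc : IsClosedImmersion j.left)
    (f : Red.bc pr T ⟶ Red.bc pr D) (hfm : IsMonHom f) (hf : f ≫ j = (Over.pullback pr).map i) :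
    ∃ (j₀ : D ⟶ G) (f₀ : T ⟶ D), IsMonHom j₀ ∧ Mono j₀ ∧ f₀ ≫ j₀ = i := by
  classical
  haveI := hj
  haveI := hjc
  haveI := hfm
  subst hπ
  haveI : ∀ {W : Scheme.{u}} (g : W ⟶ S₀) (X : Over S₀) [LocallyOfFinitePresentation X.hom],
      LocallyOfFinitePresentation (Red.bc g X).hom :=
    fun g X _ => inferInstanceAs (LocallyOfFinitePresentation (pullback.snd _ _))
  have hm₁' : IsMonHom ((cmp (rfl : c.π.app o ≫ st o = _) T).hom ≫ f ≫ (cmp rfl D).inv) := inferInstance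
  have hm₂' : IsMonHom ((cmp (rfl : c.π.app o ≫ st o = _) D).hom ≫ j ≫ (cmp rfl G).inv) := inferInstance
  obtain ⟨a₁, φ₁, u₁, hu₁, hm₁⟩ := (Groth.Agent.S6086.result Ds c hc o (Red.bc (st o) T) (Red.bc (st o) D)).1
    _ hm₁'
  obtain ⟨a₂, φ₂, u₂, hu₂, hm₂⟩ := (Groth.Agent.S6086.result Ds c hc o (Red.bc (st o) D) (Red.bc (st o) G)).1
    _ hm₂'
  -- a common stage
  obtain ⟨a, p₁, p₂, hp⟩ : ∃ (a : I) (p₁ : a ⟶ a₁) (p₂ : a ⟶ a₂), p₁ ≫ φ₁ = p₂ ≫ φ₂ := by
    obtain ⟨a, p₁, p₂, h⟩ := IsCofiltered.cospan φ₁ φ₂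
    exact ⟨a, p₁, p₂, h⟩
  let ψ : a ⟶ o := p₁ ≫ φ₁
  have e₁ : Ds.map p₁ ≫ Ds.map φ₁ = Ds.map ψ := (Ds.map_comp p₁ φ₁).symm
  have e₂ : Ds.map p₂ ≫ Ds.map φ₂ = Ds.map ψ := by rw [← Ds.map_comp, ← hp]
  let P := Red.bc (Ds.map ψ) (Red.bc (st o) T)
  let Q := Red.bc (Ds.map ψ) (Red.bc (st o) D)
  let R := Red.bc (Ds.map ψ) (Red.bc (st o) G)
  let v₁ : P ⟶ Q := (cmp e₁ _).inv ≫ (Over.pullback (Ds.map p₁)).map u₁ ≫ (cmp e₁ _).hom
  let v₂ : Q ⟶ R := (cmp e₂ _).inv ≫ (Over.pullback (Ds.map p₂)).map u₂ ≫ (cmp e₂ _).hom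
  let iv : P ⟶ R := (Over.pullback (Ds.map ψ)).map ((Over.pullback (st o)).map i)
  haveI := hu₁
  haveI := hu₂
  haveI : IsMonHom v₁ := by dsimp only [v₁]; infer_instance
  haveI : IsMonHom v₂ := by dsimp only [v₂]; infer_instance
  haveI : IsMonHom iv := by dsimp only [iv]; infer_instance
  have hlim₁ : (Over.pullback (c.π.app a)).map v₁ = (cmp (c.w ψ) _).hom ≫
      ((cmp (rfl : c.π.app o ≫ st o = _) T).hom ≫ f ≫ (cmp rfl D).inv) ≫ (cmp (c.w ψ) _).inv :=
    bc_stage Ds c φ₁ p₁ ψ e₁ u₁ _ hm₁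
  have hlim₂ : (Over.pullback (c.π.app a)).map v₂ = (cmp (c.w ψ) _).hom ≫
      ((cmp (rfl : c.π.app o ≫ st o = _) D).hom ≫ j ≫ (cmp rfl G).inv) ≫ (cmp (c.w ψ) _).inv :=
    bc_stage Ds c φ₂ p₂ ψ e₂ u₂ _ hm₂
  have heq : (Over.pullback (c.π.app a)).map (v₁ ≫ v₂) = (Over.pullback (c.π.app a)).map iv := by
    rw [Functor.map_comp, hlim₁, hlim₂]
    simp only [Category.assoc, Iso.inv_hom_id_assoc]
    rw [reassoc_of% hf, ← reassoc_of% cmp_naturality (rfl : c.π.app o ≫ st o = _) i, Iso.hom_inv_id_assoc,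
      ← reassoc_of% cmp_naturality (c.w ψ) ((Over.pullback (st o)).map i), Iso.hom_inv_id, Category.comp_id]
  obtain ⟨a', q, hq⟩ := (Groth.Agent.S6086.result Ds c hc o (Red.bc (st o) T) (Red.bc (st o) G)).2 a ψ (v₁ ≫ v₂) iv
    inferInstance inferInstance heq
  -- closed immersion at a later stage
  haveI : LocallyOfFinitePresentation Q.hom := inferInstanceAs (LocallyOfFinitePresentation (pullback.snd _ _))
  haveI : QuasiCompact Q.hom := inferInstanceAs (QuasiCompact (pullback.snd _ _))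
  haveI : QuasiSeparated Q.hom := inferInstanceAs (QuasiSeparated (pullback.snd _ _))
  haveI : LocallyOfFinitePresentation R.hom := inferInstanceAs (LocallyOfFinitePresentation (pullback.snd _ _))
  haveI : QuasiCompact R.hom := inferInstanceAs (QuasiCompact (pullback.snd _ _))
  haveI : QuasiSeparated R.hom := inferInstanceAs (QuasiSeparated (pullback.snd _ _))
  let Q' := Red.bc (Ds.map q) Q
  let R' := Red.bc (Ds.map q) R
  haveI : LocallyOfFinitePresentation Q'.hom := inferInstanceAs (LocallyOfFinitePresentation (pullback.snd _ _))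
  haveI : QuasiCompact Q'.hom := inferInstanceAs (QuasiCompact (pullback.snd _ _))
  haveI : QuasiSeparated Q'.hom := inferInstanceAs (QuasiSeparated (pullback.snd _ _))
  haveI : QuasiCompact R'.hom := inferInstanceAs (QuasiCompact (pullback.snd _ _))
  haveI : QuasiSeparated R'.hom := inferInstanceAs (QuasiSeparated (pullback.snd _ _))
  let v' : Q' ⟶ R' := (Over.pullback (Ds.map q)).map v₂
  have hw : v'.left ≫ R'.hom = Q'.hom := Over.w v'
  haveI : LocallyOfFiniteType (v'.left ≫ R'.hom) := by rw [hw]; infer_instance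
  haveI : QuasiCompact (v'.left ≫ R'.hom) := by rw [hw]; infer_instance
  haveI : QuasiSeparated (v'.left ≫ R'.hom) := by rw [hw]; infer_instance
  haveI : LocallyOfFiniteType v'.left := locallyOfFiniteType_of_comp v'.left R'.hom
  haveI : QuasiCompact v'.left := QuasiCompact.of_comp v'.left R'.hom
  haveI : QuasiSeparated v'.left := QuasiSeparated.of_comp v'.left R'.hom
  haveI : CompactSpace R'.left := QuasiCompact.compactSpace_of_compactSpace R'.hom
  have hci : IsClosedImmersion ((Over.pullback (c.π.app a')).map v').left := by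
    have h1 : (Over.pullback (c.π.app a')).map v' =
        (cmp (c.w q) Q).hom ≫ (Over.pullback (c.π.app a)).map v₂ ≫ (cmp (c.w q) R).inv := by
      rw [← reassoc_of% cmp_naturality (c.w q) v₂, Iso.hom_inv_id, Category.comp_id]
    rw [h1, hlim₂]
    exact isClosedImmersion_conj (cmp (c.w q) Q) (cmp (c.w q) R).symm
      (isClosedImmersion_conj (cmp (c.w ψ) _) (cmp (c.w ψ) _).symm
        (isClosedImmersion_conj (cmp rfl D) (cmp rfl G).symm ‹IsClosedImmersion j.left›))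
  obtain ⟨l, χ, Xl, Yl, fl, gl, pY, pX, sY, sX, hcl⟩ := MorLib.Desc.descend₂ Ds c hc
    (P := @IsClosedImmersion) (Q := @LocallyOfFiniteType) MorLib.Desc.core_closedImmersion
    v'.left R'.hom inferInstance ((Over.pullback (c.π.app a')).map v').left (pullback.snd _ _)
    (pullback.fst R'.hom (c.π.app a')) (pullback.fst Q'.hom (c.π.app a')) (IsPullback.of_hasPullback _ _)
    (isPullback_map (c.π.app a') v') hci
  haveI hclχ : IsClosedImmersion ((Over.pullback (Ds.map χ)).map v').left := by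
    let e := sY.isoPullback
    have he : e.hom ≫ pullback.fst R'.hom (Ds.map χ) = pY := sY.isoPullback_hom_fst
    have hb : IsPullback pX (fl ≫ e.hom) v'.left (pullback.fst R'.hom (Ds.map χ)) :=
      IsPullback.of_iso sX (Iso.refl _) (Iso.refl _) e (Iso.refl _) (by simp) (by simp) (by simp) (by simp [he])
    haveI : IsClosedImmersion fl := hcl
    exact MorLib.Desc.of_two @IsClosedImmersion hb (isPullback_map (Ds.map χ) v')
      (inferInstanceAs (IsClosedImmersion (fl ≫ e.hom)))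
  -- a section of the stage
  obtain ⟨σ, hσ⟩ := hsec l
  let ρ : S₀ ⟶ Ds.obj a' := σ ≫ Ds.map χ
  let τ : S₀ ⟶ Ds.obj a := ρ ≫ Ds.map q
  have hτ : (τ ≫ Ds.map ψ) ≫ st o = 𝟙 _ := by
    simp only [τ, ρ, Category.assoc]
    rw [hst, hst, hst]
    exact hσ
  let E : ∀ X : Over S₀, Red.bc τ (Red.bc (Ds.map ψ) (Red.bc (st o) X)) ≅ X :=
    fun X => cmp rfl (Red.bc (st o) X) ≪≫ cmp hτ X ≪≫ pid X
  haveI hE : ∀ (X : Over S₀) [GrpObj X], IsMonHom (E X).hom := fun X _ => by
    haveI := isMonHom_pullbackId X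
    exact inferInstanceAs (IsMonHom ((cmp rfl (Red.bc (st o) X)).hom ≫ (cmp hτ X).hom ≫ (pid X).hom))
  haveI : ∀ (X : Over S₀) [GrpObj X], IsMonHom (E X).inv := fun X _ => inferInstance
  have hnat : (Over.pullback τ).map iv ≫ (E G).hom = (E T).hom ≫ i := by
    show (Over.pullback τ).map ((Over.pullback (Ds.map ψ)).map ((Over.pullback (st o)).map i)) ≫
      (cmp rfl (Red.bc (st o) G)).hom ≫ (cmp hτ G).hom ≫ (pid G).hom =
      ((cmp rfl (Red.bc (st o) T)).hom ≫ (cmp hτ T).hom ≫ (pid T).hom) ≫ i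
    simp only [Category.assoc]
    rw [reassoc_of% cmp_naturality (rfl : τ ≫ Ds.map ψ = _) ((Over.pullback (st o)).map i),
      reassoc_of% cmp_naturality hτ i]
    rw [pid_naturality i]
  let j₀ : D ⟶ G := (E D).inv ≫ (Over.pullback τ).map v₂ ≫ (E G).hom
  let f₀ : T ⟶ D := (E T).inv ≫ (Over.pullback τ).map v₁ ≫ (E D).hom
  have h3 : ∀ {A B : Over (Ds.obj a)} (w : A ⟶ B), (Over.pullback τ).map w =
      (cmp (rfl : ρ ≫ Ds.map q = τ) A).inv ≫
        (Over.pullback ρ).map ((Over.pullback (Ds.map q)).map w) ≫ (cmp rfl B).hom := fun w => by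
    rw [Iso.eq_inv_comp]
    exact (cmp_naturality (rfl : ρ ≫ Ds.map q = τ) w).symm
  refine ⟨j₀, f₀, by dsimp only [j₀]; infer_instance, ?_, ?_⟩
  · have hm : Mono ((Over.pullback τ).map v₂) := by
      haveI : Mono ((Over.pullback (Ds.map χ)).map v') :=
        (Over.forget _).mono_of_mono_map (inferInstanceAs (Mono ((Over.pullback (Ds.map χ)).map v').left))
      haveI : Mono ((Over.pullback ρ).map v') := by
        rw [← (Iso.inv_comp_eq _).2 (cmp_naturality (rfl : σ ≫ Ds.map χ = ρ) v').symm.symm]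
        infer_instance
      rw [h3 v₂]
      infer_instance
    dsimp only [j₀]
    infer_instance
  · have h4 : (Over.pullback τ).map (v₁ ≫ v₂) = (Over.pullback τ).map iv := by rw [h3, h3, hq]
    simp only [f₀, j₀, Category.assoc, Iso.hom_inv_id_assoc]
    rw [← Category.assoc ((Over.pullback τ).map v₁), ← Functor.map_comp, h4, hnat, Iso.inv_hom_id_assoc]

end Limit

section Field

variable (k : Type u) [Field k] [IsAlgClosed k] (K : Type u) [Field K] [IsAlgClosed K] [Algebra k K]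

local notation "b₀" => Spec.map (CommRingCat.ofHom (algebraMap k K))

set_option maxHeartbeats 1000000 in
/-- A pair of homomorphisms over an extension, the second a closed immersion, specialises. -/
theorem exists_spec_field {T D G : Over (Spec (CommRingCat.of k))} [GrpObj T] [GrpObj D] [GrpObj G]
    [LocallyOfFinitePresentation T.hom] [QuasiCompact T.hom] [QuasiSeparated T.hom]
    [LocallyOfFinitePresentation D.hom] [QuasiCompact D.hom] [QuasiSeparated D.hom]
    [LocallyOfFinitePresentation G.hom] [QuasiCompact G.hom] [QuasiSeparated G.hom]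
    (i : T ⟶ G) [IsMonHom i] (j : Red.bc b₀ D ⟶ Red.bc b₀ G) (hj : IsMonHom j) (hjc : IsClosedImmersion j.left)
    (f : Red.bc b₀ T ⟶ Red.bc b₀ D) (hfm : IsMonHom f) (hf : f ≫ j = (Over.pullback b₀).map i) :
    ∃ (j₀ : D ⟶ G) (f₀ : T ⟶ D), IsMonHom j₀ ∧ Mono j₀ ∧ f₀ ≫ j₀ = i :=
  @exists_spec_of_limit _ _ _ _ (AlgClosedSpread.diagram k K) (AlgClosedSpread.cone k K)
    (AlgClosedSpread.isLimit k K) (fun a b φ => AlgClosedSpread.isAffineHom_map k K φ)
    (AlgClosedSpread.isAffine_obj k K) (AlgClosedSpread.str k K) (AlgClosedSpread.map_str k K)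
    (AlgClosedSpread.exists_point k K) b₀ (Opposite.op ∅) (AlgClosedSpread.π_str k K _)
    T D G _ _ _ _ _ _ _ _ _ _ _ _ i _ j hj hjc f hfm hf

/-- Maximality among subtori is stable under extension of an algebraically closed field. -/
theorem Max.bc {T G : Over (Spec (CommRingCat.of k))} [GrpObj T] [GrpObj G]
    [LocallyOfFinitePresentation G.hom] [QuasiCompact G.hom] [QuasiSeparated G.hom] [IsSeparated G.hom]
    {i : T ⟶ G} [IsMonHom i] [Mono i] (hT : Red.IsTorus T) (h : Max i) :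
    Max ((Over.pullback b₀).map i) := by
  intro T' _ j _ _ f hT' hf
  haveI : IsMonHom f := isMonHom_of_mono f j (by rw [hf]; infer_instance)
  obtain ⟨n, ⟨e⟩⟩ := TorusQI.exists_split_geom hT' (𝟙 _)
  obtain ⟨e'⟩ := GrpSchLib.MultTypeBC.bc_DS b₀ (Fin n → ℤ)
  let D : Over (Spec (CommRingCat.of k)) := Red.DS _ (Fin n → ℤ)
  haveI : AddGroup.FG (Fin n → ℤ) := Module.Finite.iff_addGroup_fg.1 inferInstance
  have hD : SGA3x.IsMultTypeFT D := TorusQI.isMultTypeFT_DS _
  haveI := GrpSchLib.MultTypeLfp.lfp hD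
  haveI := (MultTypeGen.locDiag_essFree (MultTypeLib.GenMultType.of_multTypeFT hD)).1
  have hTm := TorusQI.isMultTypeFT_of_isTorus hT
  haveI := GrpSchLib.MultTypeLfp.lfp hTm
  haveI := (MultTypeGen.locDiag_essFree (MultTypeLib.GenMultType.of_multTypeFT hTm)).1
  let eid : Grp.mk (Red.bc (𝟙 _) T') ≅ Grp.mk T' :=
    (Functor.mapGrpNatIso Over.pullbackId ≪≫ Functor.mapGrpIdIso).app (Grp.mk T')
  let ee : Grp.mk (Red.bc b₀ D) ≅ Grp.mk T' := e' ≪≫ e.symm ≪≫ eid
  let θ : Red.bc b₀ D ≅ T' := ⟨ee.hom.hom.hom, ee.inv.hom.hom, congrArg (fun h => h.hom.hom) ee.hom_inv_id,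
    congrArg (fun h => h.hom.hom) ee.inv_hom_id⟩
  haveI : IsMonHom θ.hom := ee.hom.hom.isMonHom_hom
  haveI : IsMonHom θ.inv := ee.inv.hom.isMonHom_hom
  haveI : LocallyOfFiniteType (Red.bc b₀ D).hom := inferInstanceAs (LocallyOfFiniteType (pullback.snd _ _))
  haveI : LocallyOfFiniteType (Red.bc b₀ G).hom := inferInstanceAs (LocallyOfFiniteType (pullback.snd _ _))
  haveI : QuasiCompact (Red.bc b₀ D).hom := inferInstanceAs (QuasiCompact (pullback.snd _ _))
  haveI : QuasiSeparated (Red.bc b₀ G).hom := inferInstanceAs (QuasiSeparated (pullback.snd _ _))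
  haveI : QuasiCompact (θ.hom ≫ j).left := by
    haveI : QuasiCompact ((θ.hom ≫ j).left ≫ (Red.bc b₀ G).hom) := by rw [Over.w]; infer_instance
    exact QuasiCompact.of_comp _ (Red.bc b₀ G).hom
  haveI : IsClosedImmersion (θ.hom ≫ j).left :=
    Groth.Agent.S3036.result K (Red.bc b₀ D) (Red.bc b₀ G) (θ.hom ≫ j)
  haveI : IsMonHom (θ.hom ≫ j) := instIsMonHomComp θ.hom j
  haveI : IsMonHom (f ≫ θ.inv) := instIsMonHomComp f θ.inv
  have hfj : (f ≫ θ.inv) ≫ θ.hom ≫ j = (Over.pullback b₀).map i := by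
    rw [Category.assoc, Iso.inv_hom_id_assoc, hf]
  have h1 := exists_spec_field (T := T) (D := D) (G := G) k K i
  have h2 := h1 (θ.hom ≫ j) ‹IsMonHom (θ.hom ≫ j)› ‹IsClosedImmersion (θ.hom ≫ j).left›
  have h3 := h2 (f ≫ θ.inv)
  have h4 := h3 ‹IsMonHom (f ≫ θ.inv)› hfj
  obtain ⟨j₀, f₀, hj₀, hj₀m, hfac⟩ := h4
  haveI := hj₀
  haveI := hj₀m
  haveI : IsIso f₀ := h D j₀ f₀ (TorusQI.isTorus_DS n) hfac
  haveI : IsMonHom f₀ := isMonHom_of_mono f₀ j₀ (by rw [hfac]; infer_instance)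
  haveI : Mono ((Over.pullback b₀).map i) := inferInstance
  haveI : Mono f := mono_of_mono_fac hf
  refine Groth.Agent.S16611.result (SolvGrp.isTorus_bc b₀ hT) hT' f fun s => ?_
  obtain ⟨r, ⟨er⟩⟩ := TorusQI.exists_split_geom hT' (Red.geomPt s)
  let g₁ : Grp.mk T ≅ Grp.mk D := Grp.mkIso (asIso f₀) (IsMonHom.one_hom f₀) (IsMonHom.mul_hom f₀)
  obtain ⟨g₂⟩ := GrpSchLib.MultTypeBC.bc_iso b₀ g₁
  obtain ⟨g₃⟩ := GrpSchLib.MultTypeBC.bc_iso (Red.geomPt s) (g₂ ≪≫ ee)
  exact ⟨r, ⟨g₃ ≪≫ er⟩, ⟨er⟩⟩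

end Field

end Groth.Agent.MaxTorusBC
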